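import Cfsg.Agent.Lib.LeechIso.Engine
import Cfsg.Agent.Lib.Leech.Sub.Pairs

/-!
Orders of joint stabilizers of lattice vectors from transitivity.
-/

set_option autoImplicit false

namespace CfsgLib.LeechIso

open Cfsg CfsgLib.Leech

theorem fixV_pair (v w : ↥leechLattice) :
    fixV [v, w] = MulAction.stabilizer ↥Co0 v ⊓ MulAction.stabilizer ↥Co0 w := by
  ext g; simp [mem_fixV]

theorem fixV_triple (v w x : ↥leechLattice) :
    fixV [v, w, x] = MulAction.stabilizer ↥Co0 v ⊓ MulAction.stabilizer ↥Co0 w ⊓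
      MulAction.stabilizer ↥Co0 x := by
  ext g; simp [mem_fixV, and_assoc]

/-- the orbit of a further vector -/
theorem card_fixV_snoc {us : List ↥leechLattice} {c : List ℤ} {x : ↥leechLattice} (hx : x ∈ setV us c)
    (htr : ∀ y ∈ setV us c, ∃ g : ↥Co0, (∀ u ∈ us, g • u = u) ∧ g • x = y) :
    (setV us c).ncard * Nat.card ↥(fixV (us ++ [x])) = Nat.card ↥(fixV us) := by
  have := finite_Co0
  set H := fixV us
  have h := Nat.card_congr (MulAction.orbitProdStabilizerEquivGroup ↥H x)
  rw [Nat.card_prod] at h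
  have horb : Nat.card (MulAction.orbit ↥H x) = (setV us c).ncard := by
    rw [Nat.card_coe_set_eq]
    congr 1
    ext y
    constructor
    · rintro ⟨g, rfl⟩
      exact ⟨(sqNorm_smul g.1 x).trans hx.1, (sigV_fix g.2 x).trans hx.2⟩
    · intro hy
      obtain ⟨g, hg, hgx⟩ := htr y hy
      exact ⟨⟨g, hg⟩, hgx⟩
  have hst : Nat.card (MulAction.stabilizer ↥H x) = Nat.card ↥(fixV (us ++ [x])) :=
    Nat.card_congr
      { toFun := fun g => ⟨g.1.1, fun u hu => by
          rcases List.mem_append.1 hu with hu | hu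
          · exact g.1.2 u hu
          · rw [List.mem_singleton.1 hu]; exact g.2⟩
        invFun := fun g => ⟨⟨g.1, fun u hu => g.2 u (List.mem_append_left _ hu)⟩,
          g.2 x (List.mem_append_right _ (List.mem_singleton_self x))⟩
        left_inv := fun _ => rfl
        right_inv := fun _ => rfl }
  rwa [horb, hst] at h

end CfsgLib.LeechIso
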