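import Cfsg.Agent.Lib.LeechIso.ChkU4Words

/-!
A check of the data on 126 points; the checks are made one after another to bound the peak memory.
-/

set_option autoImplicit false
set_option Elab.async false
set_option maxRecDepth 30000

namespace CfsgLib.LeechIso.U4

theorem chainM_chk : chainOK 126 3265920 Q progM levelsM = true := by decide +kernel

end CfsgLib.LeechIso.U4
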