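import Cfsg.Agent.Lib.LeechIso.ChkU6Gens

/-!
A check of the data on 693 points; the checks are made one after another to bound the peak memory.
-/

set_option autoImplicit false
set_option Elab.async false
set_option maxRecDepth 30000

namespace CfsgLib.LeechIso.U6

theorem chain_chk : chainOK 891 9196830720 P prog levels = true := by decide +kernel

end CfsgLib.LeechIso.U6
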