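import Cfsg.Agent.Lib.Leech.Sub.Multi
import Cfsg.Agent.Lib.Leech.Sub.StabCols
import Cfsg.Agent.Lib.Schur.FamilyAction
import Cfsg.Agent.Lib.M24.PackChain

/-!
Identification of a joint stabilizer of lattice vectors with a simple permutation group, by an
invariant relation between two families of points.
-/

set_option autoImplicit false
set_option maxRecDepth 10000

namespace CfsgLib.LeechIso

open Cfsg CfsgLib.CosetEnum CfsgLib.M24.PackChain CfsgLib.Leech CfsgLib.Golay

attribute [local irreducible] dL bL key keyL coord packB linL bits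

/-! ### Orders from chains -/

/-- The packed permutations are the images of the elements. -/
def Packed {H : Type*} [Group H] {n r : ℕ} (φ : H →* Equiv.Perm (Fin n)) (a : Fin r → H)
    (P : List ℕ) : Prop :=
  P.length = r ∧ ∀ k : Fin r, ∀ x : Fin n, (φ (a k) x : ℕ) = pk (nth P k 0) x

/-- the checks of a chain -/
noncomputable def chainOK (n N : ℕ) (P : List ℕ) (prog : List (ℕ × ℕ × ℕ))
    (levels : List (ℕ × List (ℕ × ℕ))) : Bool :=
  Nat.ble n 1024 && progOK n P prog && levelsOK n (vals P prog) [] levels &&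
    (levels.all fun l => l.2.all fun e => Nat.blt e.2 (vals P prog).length) &&
      Nat.beq (levProd levels) N

theorem chain_le {H : Type*} [Group H] [Finite H] {n r N : ℕ} {φ : H →* Equiv.Perm (Fin n)}
    {a : Fin r → H} {P : List ℕ} {prog : List (ℕ × ℕ × ℕ)} {levels : List (ℕ × List (ℕ × ℕ))}
    (hP : Packed φ a P) (h : chainOK n N P prog levels = true) :
    N ≤ Nat.card ↥(Subgroup.closure (Set.range a)) := by
  simp only [chainOK, Bool.and_eq_true, Nat.ble_eq, Nat.beq_eq, List.all_eq_true, Nat.blt_eq] at h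
  obtain ⟨⟨⟨⟨hn, hprog⟩, hlev⟩, hidx⟩, hN⟩ := h
  set K := Subgroup.closure (Set.range a)
  set ps : List ℕ := List.replicate P.length 0
  have hgood : ∀ i < P.length, Good (φ.comp K.subtype) 1 (nth P i 0) (ps.getD i 0) := fun i hi => by
    refine ⟨⟨a ⟨i, hP.1 ▸ hi⟩, Subgroup.subset_closure ⟨_, rfl⟩⟩, fun x => hP.2 ⟨i, hP.1 ▸ hi⟩ x, ?_⟩
    have : ps.getD i 0 = 0 := by simp [ps, List.getD_eq_getElem?_getD, hi]
    rw [this]; rfl
  have hgood' := prog_good hn prog P ps (by simp [ps]) hprog hgood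
  have hH : ∀ l ∈ levels, ∀ e ∈ l.2, ∃ σ ∈ (φ.comp K.subtype).range, ∀ x : Fin n,
      (σ x : ℕ) = pk (nth (vals P prog) e.2 0) x := fun l hl e he => by
    obtain ⟨g, hg, -⟩ := hgood' _ (hidx l hl e he)
    exact ⟨_, ⟨g, rfl⟩, hg⟩
  have h1 := levels_le levels [] hlev hH
  rw [← hN]
  refine le_trans ?_ (le_trans h1 (le_trans (Subgroup.card_le_of_le inf_le_left) ?_))
  · exact Nat.le_mul_of_pos_right _ Nat.card_pos
  · exact Nat.card_le_card_of_surjective _ (φ.comp K.subtype).rangeRestrict_surjective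

theorem generate_of_chain {H : Type*} [Group H] [Finite H] {n r N : ℕ} {φ : H →* Equiv.Perm (Fin n)}
    {a : Fin r → H} {P : List ℕ} {prog : List (ℕ × ℕ × ℕ)} {levels : List (ℕ × List (ℕ × ℕ))}
    (hP : Packed φ a P) (h : chainOK n N P prog levels = true) (hcard : Nat.card H ≤ N) :
    Subgroup.closure (Set.range a) = ⊤ :=
  Subgroup.eq_top_of_le_card _ (hcard.trans (chain_le hP h))

/-! ### Isomorphism from a relation -/

/-- A relation invariant under matched generators that is not constant on an orbit gives an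
isomorphism onto a simple group of the same order. -/
theorem equiv_of_relation {H M : Type*} [Group H] [Group M] [Finite H] [Finite M] [IsSimpleGroup M]
    {n m r : ℕ} (φ : H →* Equiv.Perm (Fin n)) (ψ : M →* Equiv.Perm (Fin m)) (a : Fin r → H)
    (b : Fin r → M) (ha : Subgroup.closure (Set.range a) = ⊤) (hb : Subgroup.closure (Set.range b) = ⊤)
    (hcard : Nat.card H = Nat.card M) (S : Fin n → Fin m → Prop)
    (hS : ∀ k i j, S i j → S (φ (a k) i) (ψ (b k) j))
    {i : Fin n} {j : Fin m} {g : M} (h1 : S i j) (h2 : ¬ S i (ψ g j)) : Nonempty (H ≃* M) := by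
  set Γ : Subgroup (H × M) := Subgroup.closure (Set.range fun k => (a k, b k))
  have hinv : ∀ p ∈ Γ, ∀ i j, S i j → S (φ p.1 i) (ψ p.2 j) := by
    intro p hp
    have hp' : p ∈ Submonoid.closure (Set.range fun k => (a k, b k)) := by
      rw [← Subgroup.closure_toSubmonoid_of_finite]; exact hp
    induction hp' using Submonoid.closure_induction with
    | mem s hs => obtain ⟨k, rfl⟩ := hs; exact hS k
    | one => intro i j h; simpa using h
    | mul x y hx hy ihx ihy =>
      intro i j h
      have hx' : x ∈ Γ := Submonoid.closure_le.2 (fun s hs => Subgroup.subset_closure hs) hx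
      have hy' : y ∈ Γ := Submonoid.closure_le.2 (fun s hs => Subgroup.subset_closure hs) hy
      simpa [Equiv.Perm.mul_apply] using ihx hx' _ _ (ihy hy' _ _ h)
  have hfst : Γ.map (MonoidHom.fst H M) = ⊤ := by
    rw [MonoidHom.map_closure, ← Set.range_comp]; exact ha
  have hsnd : Γ.map (MonoidHom.snd H M) = ⊤ := by
    rw [MonoidHom.map_closure, ← Set.range_comp]; exact hb
  set L : Subgroup M := Γ.comap (MonoidHom.inr H M)
  have hL : L.Normal := by
    refine ⟨fun l hl x => ?_⟩
    obtain ⟨⟨h', x'⟩, hmem, rfl⟩ := Subgroup.mem_map.1 (hsnd ▸ Subgroup.mem_top x)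
    have := Γ.mul_mem (Γ.mul_mem hmem hl) (Γ.inv_mem hmem)
    simpa [L] using this
  rcases hL.eq_bot_or_eq_top with hbot | htop
  · have hp1 : Function.Bijective ((MonoidHom.fst H M).comp Γ.subtype) := by
      refine ⟨(injective_iff_map_eq_one _).2 fun p hp => ?_, fun h => ?_⟩
      · have : (p : H × M).2 ∈ L := by
          show ((1 : H), (p : H × M).2) ∈ Γ
          have e : ((1 : H), (p : H × M).2) = (p : H × M) := Prod.ext hp.symm rfl
          rw [e]; exact p.2
        rw [hbot, Subgroup.mem_bot] at this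
        exact Subtype.ext (Prod.ext hp this)
      · obtain ⟨p, hp, rfl⟩ := Subgroup.mem_map.1 (hfst ▸ Subgroup.mem_top h)
        exact ⟨⟨p, hp⟩, rfl⟩
    have hp2 : Function.Bijective ((MonoidHom.snd H M).comp Γ.subtype) := by
      refine Function.Surjective.bijective_of_nat_card_le (fun x => ?_) ?_
      · obtain ⟨p, hp, rfl⟩ := Subgroup.mem_map.1 (hsnd ▸ Subgroup.mem_top x)
        exact ⟨⟨p, hp⟩, rfl⟩
      · exact le_of_eq ((Nat.card_congr (Equiv.ofBijective _ hp1)).trans hcard)
    exact ⟨(MulEquiv.ofBijective _ hp1).symm.trans (MulEquiv.ofBijective _ hp2)⟩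
  · exfalso
    have hg : ((1 : H), g) ∈ Γ := by
      have : g ∈ L := htop ▸ Subgroup.mem_top g
      exact this
    exact h2 (by simpa using hinv _ hg i j h1)

/-- the mask of a list -/
noncomputable def maskOf : List ℕ → ℕ
  | [] => 0
  | x :: xs => Nat.lor (Nat.pow (nat_lit 2) x) (maskOf xs)

theorem testBit_maskOf : ∀ (l : List ℕ) (j : ℕ), Nat.testBit (maskOf l) j = true ↔ j ∈ l
  | [], j => by simp [maskOf]
  | x :: xs, j => by
    show Nat.testBit (2 ^ x ||| maskOf xs) j = true ↔ _
    rw [Nat.testBit_or, Bool.or_eq_true, Nat.testBit_two_pow, decide_eq_true_iff, testBit_maskOf xs j,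
      List.mem_cons, eq_comm]

/-- the check of one row of a relation -/
noncomputable def relAt (n : ℕ) (R : List (List ℕ)) (A B i : ℕ) : Bool :=
  strict i fun i => pick (ltB i n) (strict (maskOf (R.getD (pk A i) [])) fun rj =>
    (R.getD i []).all fun j => Nat.testBit rj (pk B j)) true

/-- the checks of a relation: invariant, and not constant on the orbit of a related point -/
noncomputable def relOK (n m : ℕ) (R : List (List ℕ)) (P Q : List ℕ) (w : ℕ × ℕ × ℕ) : Bool :=
  Nat.ble m 1024 && Nat.ble n 1024 && Nat.beq P.length Q.length &&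
    ((List.range P.length).all fun k => allUp (relAt n R (nth P k 0) (nth Q k 0)) 10 0) &&
      Nat.blt w.1 n && Nat.blt w.2.1 m && Nat.blt w.2.2 Q.length &&
        Nat.testBit (maskOf (R.getD w.1 [])) w.2.1 &&
          !Nat.testBit (maskOf (R.getD w.1 [])) (pk (nth Q w.2.2 0) w.2.1)

/-- The isomorphism from checked data. -/
theorem equiv_of_checks {H M : Type*} [Group H] [Group M] [Finite H] [Finite M] [IsSimpleGroup M]
    {n m r : ℕ} {φ : H →* Equiv.Perm (Fin n)} {ψ : M →* Equiv.Perm (Fin m)} {a : Fin r → H}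
    {b : Fin r → M} {P Q : List ℕ} {R : List (List ℕ)} {w : ℕ × ℕ × ℕ} (hP : Packed φ a P) (hQ : Packed ψ b Q)
    (ha : Subgroup.closure (Set.range a) = ⊤) (hb : Subgroup.closure (Set.range b) = ⊤)
    (hcard : Nat.card H = Nat.card M) (h : relOK n m R P Q w = true) : Nonempty (H ≃* M) := by
  simp only [relOK, Bool.and_eq_true, Nat.ble_eq, Nat.blt_eq, Nat.beq_eq, List.all_eq_true,
    List.mem_range, Bool.not_eq_true'] at h
  obtain ⟨⟨⟨⟨⟨⟨⟨⟨hm, hn⟩, -⟩, hrel⟩, hwi⟩, hwj⟩, hwk⟩, hw1⟩, hw2⟩ := h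
  refine equiv_of_relation φ ψ a b ha hb hcard (fun i j => (j : ℕ) ∈ R.getD i [])
    (fun k i j hij => ?_) (i := ⟨w.1, hwi⟩) (j := ⟨w.2.1, hwj⟩) (g := b ⟨w.2.2, hQ.1 ▸ hwk⟩)
    ((testBit_maskOf _ _).1 hw1) ?_
  · have hi := allUp_spec (hrel k (hP.1.symm ▸ k.2)) i (Nat.zero_le _) (by
      have := i.2; omega)
    simp only [relAt, strict_eq, show ltB i n = true from ltB_iff.mpr i.2, pick_true, List.all_eq_true] at hi
    show _ ∈ _
    rw [hP.2, hQ.2]
    exact (testBit_maskOf _ _).1 (hi j hij)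
  · show ¬ _ ∈ _
    rw [hQ.2, ← testBit_maskOf]
    exact fun e => Bool.false_ne_true (hw2.symm.trans e)

/-! ### Stabilizers of several lattice vectors -/

/-- the elements fixing the given vectors -/
def fixV (us : List ↥leechLattice) : Subgroup ↥Co0 where
  carrier := {g | ∀ u ∈ us, g • u = u}
  one_mem' _ _ := one_smul _ _
  mul_mem' {g h} hg hh u hu := by rw [mul_smul, hh u hu, hg u hu]
  inv_mem' {g} hg u hu := inv_smul_eq_iff.2 (hg u hu).symm

theorem mem_fixV {us : List ↥leechLattice} {g : ↥Co0} : g ∈ fixV us ↔ ∀ u ∈ us, g • u = u := Iff.rfl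

theorem fixV_map (us : List ↥leechLattice) (h : ↥Co0) :
    Nonempty (↥(fixV us) ≃* ↥(fixV (us.map fun u => h • u))) := by
  refine ⟨((MulAut.conj h).subgroupMap (fixV us)).trans (MulEquiv.subgroupCongr ?_)⟩
  ext g
  rw [Subgroup.mem_map]
  constructor
  · rintro ⟨x, hx, rfl⟩ u hu
    obtain ⟨v, hv, rfl⟩ := List.mem_map.1 hu
    show (h * x * h⁻¹) • h • v = h • v
    rw [mul_smul, inv_smul_smul, mul_smul, hx v hv]
  · intro hg
    refine ⟨h⁻¹ * g * h, fun u hu => ?_, ?_⟩
    · rw [mul_smul, mul_smul, inv_smul_eq_iff]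
      exact hg _ (List.mem_map_of_mem hu)
    · show h * (h⁻¹ * g * h) * h⁻¹ = g
      group

/-- the checks of generators given by automorphisms and their permutations of some classes -/
noncomputable def gensOK (n : ℕ) (V : List (List ℤ)) (W : List (List ℕ)) (keys P : List ℕ) : Bool :=
  Nat.beq P.length W.length && Nat.beq keys.length n && decide keys.Nodup &&
    (keys.all fun k => Nat.blt k 16777216) && (V.all fun l => inL l) &&
      (W.all fun w => V.all fun l => stabOK l (unMat w)) &&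
        (List.range W.length).all fun k => strict (nth P k 0) fun A =>
          (List.range n).all fun i => Nat.blt (pk A i) n &&
            (comb ((unMat (W.getD k [])).map keyL) (nth keys i 0) == nth keys (pk A i) 0)

theorem aut_fix {V : List ℤ} {W : List (List ℤ)} (hV : inL V = true) (h1 : autOK W = true)
    (h : stabOK V W = true) :
    (linIso h1).aut • (⟨vec V, vec_mem hV⟩ : ↥leechLattice) = ⟨vec V, vec_mem hV⟩ := by
  simp only [stabOK, Bool.and_eq_true, List.all_eq_true, List.mem_range, beq_iff_eq] at h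
  refine Subtype.ext ?_
  rw [Iso.aut_smul]
  show linF W (vec V) = vec V
  funext p
  rw [linF, linL_vec, ofFn_coord_vec (inL_length hV), h.2 _ (idx_lt p)]
  rfl

/-- Checked generators give elements of the stabilizer and their action on the classes. -/
theorem exists_gens {n r : ℕ} {V : List (List ℤ)} {W : List (List ℕ)} {keys P : List ℕ}
    (hV : V ≠ []) (hr : W.length = r) (h : gensOK n V W keys P = true) :
    ∃ (K : Subgroup ↥Co0) (φ : ↥K →* Equiv.Perm (Fin n)) (a : Fin r → ↥K),
      K ≤ fixV (V.map vecL) ∧ Subgroup.closure (Set.range a) = ⊤ ∧ Packed φ a P := by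
  have := finite_Co0
  simp only [gensOK, Bool.and_eq_true, Nat.beq_eq, decide_eq_true_eq, List.all_eq_true, Nat.blt_eq,
    List.mem_range, strict_eq, beq_iff_eq] at h
  obtain ⟨⟨⟨⟨⟨⟨hPl, hkl⟩, hnd⟩, hlt⟩, hin⟩, hfix⟩, hact⟩ := h
  have hmem : ∀ k : Fin r, W.getD k [] ∈ W := fun k => by
    rw [List.getD_eq_getElem _ _ (hr.symm ▸ k.2)]; exact List.getElem_mem _
  obtain ⟨l0, hl0⟩ := List.exists_mem_of_ne_nil V hV
  have haut : ∀ k : Fin r, autOK (unMat (W.getD k [])) = true := fun k => by
    have := hfix _ (hmem k) l0 hl0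
    simp only [stabOK, Bool.and_eq_true] at this
    exact this.1
  let g : Fin r → ↥Co0 := fun k => (linIso (haut k)).aut
  let K : Subgroup ↥Co0 := Subgroup.closure (Set.range g)
  let a : Fin r → ↥K := fun k => ⟨g k, Subgroup.subset_closure ⟨k, rfl⟩⟩
  have htop : Subgroup.closure (Set.range a) = ⊤ := by
    rw [← Subgroup.closure_closure_coe_preimage (k := Set.range g)]
    congr 1
    ext x
    constructor
    · rintro ⟨k, rfl⟩; exact ⟨k, rfl⟩
    · rintro ⟨k, hk⟩; exact ⟨k, Subtype.ext hk⟩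
  have hle : K ≤ fixV (V.map vecL) := by
    refine (Subgroup.closure_le _).2 ?_
    rintro _ ⟨k, rfl⟩ u hu
    obtain ⟨l, hl, rfl⟩ := List.mem_map.1 hu
    have := aut_fix (hin l hl) (haut k) (hfix _ (hmem k) l hl)
    rw [vecL, dif_pos (hin l hl)]
    exact this
  let f : Fin n → ℕ := fun i => nth keys i 0
  have hflt : ∀ i, f i < 2 ^ 24 := fun i => by
    show nth keys i 0 < _
    rw [nth_eq, List.getD_eq_getElem _ _ (hkl.symm ▸ i.2)]
    exact hlt _ (List.getElem_mem _)
  have hf : Function.Injective f := fun i j e => by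
    simp only [f, nth_eq] at e
    rw [List.getD_eq_getElem _ _ (hkl.symm ▸ i.2), List.getD_eq_getElem _ _ (hkl.symm ▸ j.2)] at e
    exact Fin.ext ((hnd.getElem_inj_iff).1 e)
  have himg : ∀ (k : Fin r) (i : Fin n), ∃ hlt : pk (nth P k 0) i < n,
      act (g k) (f i) = f ⟨pk (nth P k 0) i, hlt⟩ := fun k i => by
    obtain ⟨h1, h2⟩ := hact k (hr.symm ▸ k.2) i i.2
    exact ⟨h1, (act_lin (haut k) (hflt i)).trans h2⟩
  obtain ⟨φ, hφ⟩ := CfsgLib.Schur.exists_familyHom (fun (x : ↥K) c => act (x : ↥Co0) c) f hf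
    (fun i => act_one (hflt i)) (fun x y i => act_mul _ _ _) htop
    (by
      rintro _ ⟨k, rfl⟩ i
      obtain ⟨h1, h2⟩ := himg k i
      exact ⟨_, h2⟩)
  refine ⟨K, φ, a, hle, htop, hPl.trans hr, fun k i => ?_⟩
  obtain ⟨h1, h2⟩ := himg k i
  have : φ (a k) i = ⟨_, h1⟩ := hf ((hφ (a k) i).trans h2)
  rw [this]

/-- The isomorphism of a stabilizer of lattice vectors with a simple group. -/
theorem fixV_equiv {M : Type*} [Group M] [Finite M] [IsSimpleGroup M] {n m r N : ℕ}
    {ψ : M →* Equiv.Perm (Fin m)} {b : Fin r → M} {V : List (List ℤ)} {W : List (List ℕ)}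
    {keys P Q : List ℕ} {R : List (List ℕ)} {prog : List (ℕ × ℕ × ℕ)} {levels : List (ℕ × List (ℕ × ℕ))}
    {w : ℕ × ℕ × ℕ} (hV : V ≠ []) (hr : W.length = r)
    (hgens : gensOK n V W keys P = true) (hchain : chainOK n N P prog levels = true)
    (hQ : Packed ψ b Q) (hb : Subgroup.closure (Set.range b) = ⊤) (hM : Nat.card M = N)
    (hH : Nat.card ↥(fixV (V.map vecL)) = N) (hrel : relOK n m R P Q w = true) :
    Nonempty (↥(fixV (V.map vecL)) ≃* M) := by
  have := finite_Co0
  obtain ⟨K, φ, a, hle, htop, hP⟩ := exists_gens hV hr hgens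
  have hK : N ≤ Nat.card ↥K := by
    have := chain_le hP hchain
    rwa [htop, Subgroup.card_top] at this
  have hKeq : K = fixV (V.map vecL) := by
    refine SetLike.coe_injective (Set.eq_of_subset_of_ncard_le hle ?_ (Set.toFinite _))
    rw [← Nat.card_coe_set_eq, ← Nat.card_coe_set_eq]
    exact le_trans (le_of_eq hH) hK
  obtain ⟨e⟩ := equiv_of_checks hP hQ htop hb (by rw [hKeq, hH, hM]) hrel
  exact ⟨(MulEquiv.subgroupCongr hKeq.symm).trans e⟩

/-- the check that permutations are values of a program -/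
noncomputable def wordsIn (n : ℕ) (P : List ℕ) (prog : List (ℕ × ℕ × ℕ)) (idx : List ℕ) (Q : List ℕ) :
    Bool :=
  Nat.ble n 1024 && progOK n P prog && Nat.beq idx.length Q.length &&
    (List.range idx.length).all fun k => Nat.blt (nth idx k 0) (vals P prog).length &&
      Nat.beq (nth Q k 0) (nth (vals P prog) (nth idx k 0) 0)

theorem exists_words {M : Type*} [Group M] {m r0 r : ℕ} {ψ : M →* Equiv.Perm (Fin m)}
    {X : Fin r0 → M} {P Q idx : List ℕ} {prog : List (ℕ × ℕ × ℕ)} (hX : Packed ψ X P)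
    (hr : idx.length = r) (h : wordsIn m P prog idx Q = true) :
    ∃ b : Fin r → M, Packed ψ b Q := by
  simp only [wordsIn, Bool.and_eq_true, Nat.ble_eq, Nat.beq_eq, List.all_eq_true, List.mem_range,
    Nat.blt_eq] at h
  obtain ⟨⟨⟨hm, hprog⟩, hl⟩, hidx⟩ := h
  have hgood : ∀ i < P.length, Good ψ 1 (nth P i 0) ((List.replicate P.length 0).getD i 0) := fun i hi => by
    refine ⟨X ⟨i, hX.1 ▸ hi⟩, fun x => hX.2 ⟨i, hX.1 ▸ hi⟩ x, ?_⟩
    have : (List.replicate P.length 0).getD i 0 = 0 := by simp [List.getD_eq_getElem?_getD, hi]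
    rw [this]; rfl
  have hgood' := prog_good hm prog P _ (by simp) hprog hgood
  choose b hb hb' using fun k : Fin r => hgood' _ (hidx k (hr.symm ▸ k.2)).1
  exact ⟨b, hl.symm.trans hr, fun k x => by rw [hb, (hidx k (hr.symm ▸ k.2)).2]⟩

/-- The isomorphism, with the simple group's generators as words in given elements. -/
theorem fixV_equiv_words {M : Type*} [Group M] [Finite M] [IsSimpleGroup M] {n m r0 r N : ℕ}
    {ψ : M →* Equiv.Perm (Fin m)} {X : Fin r0 → M} {V : List (List ℤ)} {W : List (List ℕ)}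
    {keys P Q0 Q idx : List ℕ} {R : List (List ℕ)} {prog progW progM : List (ℕ × ℕ × ℕ)}
    {levels levelsM : List (ℕ × List (ℕ × ℕ))} {w : ℕ × ℕ × ℕ} (hV : V ≠ []) (hr : W.length = r)
    (hgens : gensOK n V W keys P = true) (hchain : chainOK n N P prog levels = true)
    (hX : Packed ψ X Q0) (hidx : idx.length = r) (hwords : wordsIn m Q0 progW idx Q = true)
    (hchainM : chainOK m N Q progM levelsM = true) (hM : Nat.card M = N)
    (hH : Nat.card ↥(fixV (V.map vecL)) = N) (hrel : relOK n m R P Q w = true) :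
    Nonempty (↥(fixV (V.map vecL)) ≃* M) := by
  obtain ⟨b, hb⟩ := exists_words hX hidx hwords
  exact fixV_equiv hV hr hgens hchain hb (generate_of_chain hb hchainM hM.le) hM hH hrel

end CfsgLib.LeechIso
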