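import Cfsg.Agent.Lib.UFour.Model
import Cfsg.Agent.Lib.UFour.Mult
import Cfsg.Agent.Lib.Classical.UThreeFive.Main
import Cfsg.Agent.Lib.Fi22USix.Main
import Cfsg.Agent.Lib.GTwoTwo.FieldCongr
import Cfsg.Agent.Lib.LeechIso.Engine
import Cfsg.Agent.Lib.LeechIso.DataU3
import Cfsg.Agent.Lib.LeechIso.DataU4
import Cfsg.Agent.Lib.LeechIso.DataU6

/-!
Permutation models of three unitary groups with packed tables.
-/

set_option autoImplicit false
set_option maxRecDepth 30000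

namespace CfsgLib.LeechIso

open Cfsg CfsgLib.CosetEnum CfsgLib.M24.PackChain

theorem u4Tab : U4.Q0.length = 2 ∧ ∀ j : Fin 2, (List.range 126).all (fun i =>
    Nat.beq (CfsgLib.Schur.PermTable.ap (CfsgLib.UFour.uElts.P j) i) (pk (nth U4.Q0 j 0) i)) = true := by
  decide +kernel

/-- The orthogonal model of `PSU 4 K 3` for a field of nine elements. -/
theorem model_u4 {K : Type} [Field K] [Fintype K] (hK : Fintype.card K = 9) :
    Nat.card (PSU 4 K 3) = 3265920 ∧ IsSimpleGroup (PSU 4 K 3) ∧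
      ∃ (ψ : PSU 4 K 3 →* Equiv.Perm (Fin 126)) (X : Fin 2 → PSU 4 K 3), Packed ψ X U4.Q0 := by
  obtain ⟨e⟩ := Classical.KleinSix.pomega_six_minus (F := CfsgLib.UFour.F3) (K := K) (q := 3) (ZMod.card 3)
    (by rw [hK]; rfl) 0 1 CfsgLib.UFour.hab
  obtain ⟨hcard, -⟩ := CfsgLib.UFour.unitary_part hK
  obtain ⟨ρ, hρ⟩ := CfsgLib.UFour.exists_action
  obtain ⟨C⟩ := CfsgLib.Classical.Herm.exists_conj_of_card (F := K) (q := 3) (by rw [hK]; norm_num)
  have := Fact.mk Nat.prime_three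
  have := CfsgLib.AutPSL.charP_of_card (F := K) (p := 3) (f := 2) (by rw [hK]; norm_num)
  refine ⟨hcard, CfsgLib.Classical.Herm.isSimpleGroup C 3 (by norm_num) (by norm_num),
    ρ.comp e.symm.toMonoidHom, fun j => e (CfsgLib.UFour.X j), u4Tab.1, fun j i => ?_⟩
  show ((ρ (e.symm (e (CfsgLib.UFour.X j))) i : Fin 126) : ℕ) = _
  rw [e.symm_apply_apply, hρ j i]
  have h := List.all_eq_true.1 (u4Tab.2 j) i (List.mem_range.2 i.2)
  exact Nat.eq_of_beq_eq_true h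

theorem u3Tab : U3.Q0.length = 2 ∧ ∀ k : Fin 2, (List.range 126).all (fun i =>
    Nat.beq (CfsgLib.UThreeFive.look (CfsgLib.UThreeFive.isoImg (k.val == 1)) i) (pk (nth U3.Q0 k 0) i)) =
      true := by
  decide +kernel

open scoped LinearAlgebra.Projectivization in
/-- The isotropic points for `PSU 3 F 5`. -/
theorem model_u3 {F : Type} [Field F] [Fintype F] (hF : Fintype.card F = 25) :
    Nat.card (PSU 3 F 5) = 126000 ∧ IsSimpleGroup (PSU 3 F 5) ∧
      ∃ (M : Subgroup (PSU 3 F 5)) (ψ : ↥M →* Equiv.Perm (Fin 126)) (X : Fin 2 → ↥M),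
        Packed ψ X U3.Q0 := by
  classical
  obtain ⟨e⟩ := CfsgLib.UThreeFive.exists_equiv hF
  choose gs hgs using CfsgLib.UThreeFive.exists_gen hF e
  let x : Fin 2 → PSU 3 F 5 := fun k => QuotientGroup.mk (gs (k.val == 1))
  let M := Subgroup.closure (Set.range x)
  let X : Fin 2 → ↥M := fun k => ⟨x k, Subgroup.subset_closure ⟨k, rfl⟩⟩
  have htop : Subgroup.closure (Set.range X) = ⊤ := by
    rw [← Subgroup.closure_closure_coe_preimage (k := Set.range x)]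
    congr 1
    ext y
    constructor
    · rintro ⟨k, rfl⟩; exact ⟨k, rfl⟩
    · rintro ⟨k, hk⟩; exact ⟨k, Subtype.ext hk⟩
  let f : Fin 126 → ℙ F (Fin 3 → F) := fun j =>
    CfsgLib.UThreeFive.Pt e (CfsgLib.UThreeFive.look CfsgLib.UThreeFive.isoTable j)
  have hf : Function.Injective f := fun i j h => Fin.ext (CfsgLib.UThreeFive.isoTable_inj i i.2 j j.2
    (CfsgLib.UThreeFive.Pt_inj e (CfsgLib.UThreeFive.iso_spec i i.2).1 (CfsgLib.UThreeFive.iso_spec j j.2).1 h))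
  have himg : ∀ (k : Fin 2) (i : Fin 126), ∃ h : pk (nth U3.Q0 k 0) i < 126,
      CfsgLib.UThreeFive.act hF (x k) (f i) = f ⟨_, h⟩ := fun k i => by
    have h := Nat.eq_of_beq_eq_true (List.all_eq_true.1 (u3Tab.2 k) i (List.mem_range.2 i.2))
    obtain ⟨hlt, heq⟩ := CfsgLib.UThreeFive.isoImg_spec (k.val == 1) i i.2
    refine ⟨h ▸ hlt, ?_⟩
    show (gs (k.val == 1)).1 • f i = _
    simp only [f]
    rw [CfsgLib.UThreeFive.gen_smul_Pt e _ (hgs _) (CfsgLib.UThreeFive.iso_spec i i.2).1, ← heq, h]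
  obtain ⟨ψ, hψ⟩ := CfsgLib.Schur.exists_familyHom (fun (g : ↥M) p => CfsgLib.UThreeFive.act hF (g : PSU 3 F 5) p)
    f hf (fun i => by simp) (fun g h i => by simp [Equiv.Perm.mul_apply]) htop (by
      rintro _ ⟨k, rfl⟩ i
      obtain ⟨h1, h2⟩ := himg k i
      exact ⟨_, h2⟩)
  refine ⟨CfsgLib.UThreeFive.card_PSU hF, CfsgLib.UThreeFive.isSimple hF, M, ψ, X, u3Tab.1, fun k i => ?_⟩
  obtain ⟨h1, h2⟩ := himg k i
  have : ψ (X k) i = ⟨_, h1⟩ := hf ((hψ (X k) i).trans h2)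
  rw [this]

theorem u6Tab : U6.Q0.length = 8 ∧ ∀ k : Fin 8, (List.range 693).all (fun i =>
    Nat.beq (CfsgLib.Fi22USix.pK k i) (pk (nth U6.Q0 k 0) i)) = true := by
  decide +kernel

/-- The isotropic points for `PSU 6 K4 2`. -/
theorem model_u6 :
    ∃ (ψ : PSU 6 CfsgLib.HePres.K4 2 →* Equiv.Perm (Fin 693)) (X : Fin 8 → PSU 6 CfsgLib.HePres.K4 2),
      Packed ψ X U6.Q0 := by
  obtain ⟨φ, -, -, hy⟩ := CfsgLib.Fi22USix.exists_model
  refine ⟨φ, fun k => CfsgLib.Fi22USix.yl k, u6Tab.1, fun k i => ?_⟩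
  rw [hy k k.2 i]
  exact Nat.eq_of_beq_eq_true (List.all_eq_true.1 (u6Tab.2 k) i (List.mem_range.2 i.2))

end CfsgLib.LeechIso
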