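import Cfsg.Agent.Lib.Leech.Sub.Graphs
import Cfsg.Agent.Lib.LeechIso.Count
import Cfsg.Agent.Lib.LeechIso.Models
import Cfsg.Agent.Lib.LeechIso.ChkU4

/-!
The point stabilizer of the McLaughlin group on 275 points is `PSU₄(3)`.
-/

set_option autoImplicit false

namespace CfsgLib.LeechIso

open Cfsg CfsgLib.Leech

theorem mclPt_equiv {u v x : ↥leechLattice} (hu : sqNorm (u : GolayPt → ℤ) = 48)
    (hv : sqNorm (v : GolayPt → ℤ) = 32 ∧ sqNorm ((u : GolayPt → ℤ) - (v : GolayPt → ℤ)) = 32)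
    (hx : x ∈ setV [v, u - v] [16, 8]) {F : Type} [Field F] [Fintype F] (hF : Fintype.card F = 9) :
    Nonempty (↥(fixV [v, u - v, x]) ≃* PSU 4 F 3) := by
  classical
  have := finite_Co0
  obtain ⟨hn, hd⟩ := pair275 hu hv
  have hH : Nat.card ↥(fixV [v, u - v, x]) = 3265920 := by
    obtain ⟨hc, htr⟩ := mcl275 hu hv
    have h := card_fixV_snoc (us := [v, u - v]) hx fun y hy => by
      obtain ⟨g, g1, g2, g3⟩ := htr x hx y hy
      exact ⟨g, by simp [g1, g2, smul_sub'], g3⟩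
    rw [hc, fixV_pair, natCard_mcl hv.1 hn hd, List.cons_append, List.cons_append, List.nil_append] at h
    omega
  obtain ⟨h, hh⟩ := exists_mclPt hv.1 hn hd hx
  have hV : dataMclPt.vs = U4.V.map vecL := rfl
  rw [hV] at hh
  obtain ⟨e⟩ := fixV_map (U4.V.map vecL) h
  rw [hh] at e
  obtain ⟨hM, hsimple, ψ, X, hX⟩ := model_u4 hF
  obtain ⟨e'⟩ := fixV_equiv_words (N := 3265920) (r := 2) (V := U4.V) (by decide) rfl U4.gens_chk U4.chain_chk
    hX rfl U4.words_chk U4.chainM_chk hM (by rw [Nat.card_congr e.toEquiv, hH]) U4.rel_chk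
  exact ⟨e.symm.trans e'⟩

end CfsgLib.LeechIso
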