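import Cfsg.Agent.Lib.Leech.Sub.Pairs
import Cfsg.Agent.Lib.Leech.Sub.Multi
import Cfsg.Agent.Lib.LeechIso.Count
import Cfsg.Agent.Lib.LeechIso.Models
import Cfsg.Agent.Lib.LeechIso.ChkU6

/-!
The stabilizer of two short vectors with product -16 is `PSU₆(2)`.
-/

set_option autoImplicit false
set_option maxRecDepth 10000

namespace CfsgLib.LeechIso

open Cfsg CfsgLib.Leech CfsgLib.Golay

attribute [local irreducible] cert32 cert48 dL bL key keyL coord packB linL bits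

theorem exists_pair16 {v w : ↥leechLattice} (hv : sqNorm (v : GolayPt → ℤ) = 32)
    (hw : sqNorm (w : GolayPt → ℤ) = 32) (hvw : dotInt (v : GolayPt → ℤ) w = -16) :
    ∃ h : ↥Co0, (U6.V.map vecL).map (fun u => h • u) = [v, w] := by
  obtain ⟨a, b, hV, hc⟩ : ∃ a b, U6.V = [a, b] ∧
      (inL a && inL b && dotL a a == 32 && dotL b b == 32 && dotL a b == -16) = true :=
    ⟨_, _, rfl, by decide +kernel⟩
  simp only [Bool.and_eq_true, beq_iff_eq] at hc
  obtain ⟨⟨⟨⟨ha, hb⟩, haa⟩, hbb⟩, hab⟩ := hc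
  obtain ⟨g, hg⟩ := transitive_small (t := 1) (by norm_num)
    (show sqNorm (vecL a : GolayPt → ℤ) = 32 by rw [sqNorm_eq_dotInt, dotInt_vecL ha ha, haa]) hv
  have hd : dotInt (v : GolayPt → ℤ) (g • vecL b : ↥leechLattice) = -16 := by
    rw [← hg, dotInt_smul, dotInt_vecL ha hb, hab]
  obtain ⟨k, hk, hk'⟩ := trans32 hv ((sqNorm_smul g _).trans
    (show sqNorm (vecL b : GolayPt → ℤ) = 32 by rw [sqNorm_eq_dotInt, dotInt_vecL hb hb, hbb]))
    hw (by norm_num) hd hvw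
  exact ⟨k * g, by simp [hV, mul_smul, hg, hk, hk']⟩

theorem pair16_equiv {v w : ↥leechLattice} (hv : sqNorm (v : GolayPt → ℤ) = 32)
    (hw : sqNorm (w : GolayPt → ℤ) = 32) (hvw : dotInt (v : GolayPt → ℤ) w = -16)
    {F : Type} [Field F] [Fintype F] (hF : Fintype.card F = 4) :
    Nonempty (↥(fixV [v, w]) ≃* PSU 6 F 2) := by
  classical
  have := finite_Co0
  have hH : Nat.card ↥(fixV [v, w]) = 9196830720 := by
    rw [fixV_pair]
    exact natCard_pair (c := 4600)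
      (T := {x : ↥leechLattice | sqNorm (x : GolayPt → ℤ) = 32 ∧ dotInt (v : GolayPt → ℤ) x = -16})
      ⟨hw, hvw⟩ (dot_invariant v 32 (-16))
      (fun _ hx => trans32 hv hw hx.1 (by norm_num) hvw hx.2) (census32 hv).1 (natCard_stab32 hv)
      (by norm_num) (by norm_num)
  obtain ⟨h, hh⟩ := exists_pair16 hv hw hvw
  obtain ⟨e⟩ := fixV_map (U6.V.map vecL) h
  rw [hh] at e
  obtain ⟨ψ, X, hX⟩ := model_u6
  have := CfsgLib.Fi22USix.psu_simple
  obtain ⟨e'⟩ := fixV_equiv_words (N := 9196830720) (r := 2) (V := U6.V) (by decide) rfl U6.gens_chk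
    U6.chain_chk hX rfl U6.words_chk U6.chainM_chk CfsgLib.Fi22USix.card_psu
    (by rw [Nat.card_congr e.toEquiv, hH]) U6.rel_chk
  obtain ⟨c⟩ := CfsgLib.GTwoTwo.psu_equiv (FiniteField.ringEquivOfCardEq (K := CfsgLib.HePres.K4) (K' := F)
    (by rw [CfsgLib.HePres.K4.card_eq, hF])) 6 2
  exact ⟨e.symm.trans (e'.trans c)⟩

end CfsgLib.LeechIso
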