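import Cfsg.Agent.Lib.Leech.Sub.Graphs
import Cfsg.Agent.Lib.LeechIso.Count
import Cfsg.Agent.Lib.LeechIso.Models
import Cfsg.Agent.Lib.LeechIso.ChkU3

/-!
The stabilizer of a vector in the Higman–Sims group acting on 352 vectors is `PSU₃(5)`.
-/

set_option autoImplicit false
set_option maxRecDepth 10000

namespace CfsgLib.LeechIso

open Cfsg CfsgLib.Leech CfsgLib.Golay

attribute [local irreducible] cert48 certHs dL bL key keyL coord packB linL bits

theorem uniq352 : uniqSig dataHs [16, -8] 8 = true ∧ dataHs.C.cnt (fun i => i == 8) = 352 := by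
  decide +kernel

theorem set352_eq (v w : ↥leechLattice) :
    {x : ↥leechLattice | sqNorm (x : GolayPt → ℤ) = 32 ∧ dotInt (v : GolayPt → ℤ) x = 16 ∧
      dotInt (w : GolayPt → ℤ) x = -24} = setV [v, v + w] [16, -8] := by
  ext x
  simp only [setV, sigV, List.map_cons, List.map_nil, List.cons.injEq, and_true, Set.mem_setOf_eq,
    AddSubgroup.coe_add, dotInt_add_left'']
  constructor <;> rintro ⟨h1, h2, h3⟩ <;> exact ⟨h1, h2, by omega⟩

theorem hs352 {v w : ↥leechLattice} (hv : sqNorm (v : GolayPt → ℤ) = 48)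
    (hw : sqNorm (w : GolayPt → ℤ) = 48) (hvw : dotInt (v : GolayPt → ℤ) w = -32) :
    (setV [v, v + w] [16, -8]).ncard = 352 ∧ ∀ x ∈ setV [v, v + w] [16, -8],
      ∀ x' ∈ setV [v, v + w] [16, -8], ∃ g : ↥Co0, g • v = v ∧ g • w = w ∧ g • x = x' := by
  obtain ⟨hn, hd, -⟩ := hs_sum hv hw hvw
  obtain ⟨h, hh⟩ := exists_hs hv hn hd
  refine ⟨dataHs.ncard_of_smul uniq352.1 uniq352.2 hh, fun x hx x' hx' => ?_⟩
  obtain ⟨g, hg, hgx⟩ := dataHs.trans_of_smul uniq352.1 hh hx hx'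
  simp only [List.mem_cons, List.not_mem_nil, or_false, forall_eq_or_imp, forall_eq] at hg
  refine ⟨g, hg.1, ?_, hgx⟩
  have := hg.2
  rw [smul_add', hg.1] at this
  exact add_left_cancel this

theorem exists_hs352 {v s x : ↥leechLattice} (hv : sqNorm (v : GolayPt → ℤ) = 48)
    (hs : sqNorm (s : GolayPt → ℤ) = 32) (hvs : dotInt (v : GolayPt → ℤ) s = 16)
    (hx : x ∈ setV [v, s] [16, -8]) :
    ∃ h : ↥Co0, (U3.V.map vecL).map (fun u => h • u) = [v, s, x] := by
  obtain ⟨h, hh⟩ := exists_hs hv hs hvs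
  obtain ⟨a, b, c, hV, hV', hc⟩ : ∃ a b c, U3.V = [a, b, c] ∧ certHsV = [a, b] ∧
      (inL a && inL b && inL c && dotL c c == 32 && dotL a c == 16 && dotL b c == -8) = true :=
    ⟨_, _, _, rfl, rfl, by decide +kernel⟩
  simp only [Bool.and_eq_true, beq_iff_eq] at hc
  obtain ⟨⟨⟨⟨⟨ha, hb⟩, hcin⟩, hcc⟩, hac⟩, hbc⟩ := hc
  simp only [MultiData.vs, dataHs, hV', List.map_cons, List.map_nil, List.cons.injEq, and_true] at hh
  obtain ⟨hha, hhb⟩ := hh
  have hy : h • vecL c ∈ setV [v, s] [16, -8] := by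
    refine ⟨by rw [sqNorm_smul, sqNorm_eq_dotInt, dotInt_vecL hcin hcin, hcc], ?_⟩
    rw [← hha, ← hhb]
    simp [sigV, dotInt_smul, dotInt_vecL ha hcin, dotInt_vecL hb hcin, hac, hbc]
  obtain ⟨g, hg, hgx⟩ := dataHs.trans_of_smul uniq352.1
    (h := h) (by simp [MultiData.vs, dataHs, hV', hha, hhb]) hy hx
  simp only [List.mem_cons, List.not_mem_nil, or_false, forall_eq_or_imp, forall_eq] at hg
  refine ⟨g * h, ?_⟩
  simp [hV, mul_smul, hha, hhb, hg.1, hg.2, hgx]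

theorem hsPt352_equiv {v w x : ↥leechLattice} (hv : sqNorm (v : GolayPt → ℤ) = 48)
    (hw : sqNorm (w : GolayPt → ℤ) = 48) (hvw : dotInt (v : GolayPt → ℤ) w = -32)
    (hx : x ∈ setV [v, v + w] [16, -8]) {F : Type} [Field F] [Fintype F] (hF : Fintype.card F = 25) :
    Nonempty (↥(fixV [v, v + w, x]) ≃* PSU 3 F 5) := by
  classical
  have := finite_Co0
  obtain ⟨hn, hd, -⟩ := hs_sum hv hw hvw
  have hH : Nat.card ↥(fixV [v, v + w, x]) = 126000 := by
    obtain ⟨hc, htr⟩ := hs352 hv hw hvw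
    have h := card_fixV_snoc (us := [v, v + w]) hx fun y hy => by
      obtain ⟨g, g1, g2, g3⟩ := htr x hx y hy
      exact ⟨g, by simp [g1, g2, smul_add'], g3⟩
    rw [hc, fixV_pair, ← hs_stab_eq, natCard_hs hv hw hvw, List.cons_append, List.cons_append,
      List.nil_append] at h
    omega
  obtain ⟨h, hh⟩ := exists_hs352 hv hn hd hx
  obtain ⟨e⟩ := fixV_map (U3.V.map vecL) h
  rw [hh] at e
  obtain ⟨hM, hsimple, M, ψ, X, hX⟩ := model_u3 hF
  obtain ⟨b, hb⟩ := exists_words (r := 2) hX rfl U3.words_chk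
  have hle := (chain_le hb U3.chainM_chk).trans (Subgroup.card_le_card_group _)
  have htop : M = ⊤ := Subgroup.eq_top_of_le_card M (hM.le.trans hle)
  let eM : ↥M ≃* PSU 3 F 5 := (MulEquiv.subgroupCongr htop).trans Subgroup.topEquiv
  have hs' : IsSimpleGroup ↥M := eM.isSimpleGroup
  obtain ⟨e'⟩ := fixV_equiv_words (N := 126000) (r := 2) (V := U3.V) (by decide) rfl U3.gens_chk U3.chain_chk
    hX rfl U3.words_chk U3.chainM_chk (by rw [Nat.card_congr eM.toEquiv, hM])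
    (by rw [Nat.card_congr e.toEquiv, hH]) U3.rel_chk
  exact ⟨e.symm.trans (e'.trans eM)⟩

end CfsgLib.LeechIso
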